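import Cfsg.Agent.H619.BD.KData
import Cfsg.Agent.H713.Two.Ru
import Cfsg.Agent.H38.K4.HN
import Cfsg.Agent.H492.ThRat
import Cfsg.Agent.NotCT.Orders

/-!
# `Kill 2 S` data for `Ru`, `HN`, `Th` (S4932, helper51)

* `kd_ru` : 783 of defect zero for 3, an element of order 12;
* `kd_hn` : 16929 and 653125, common prime 19;
* `kd_th` : 4123 and 30875, common prime 19.
-/

set_option autoImplicit false
set_option maxRecDepth 100000

namespace Cfsg.Agent.H51.BD

open Cfsg Cfsg.Agent.H619.BD Cfsg.Agent.H619.R4 Cfsg.Agent.Characters.Core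

universe u

section ru

open Cfsg.Agent.SporadicB Cfsg.Agent.SporadicB.RuOrder Cfsg.Agent.OddHalf.Table.OutRu

theorem rc_783 : RC H 783 := by
  have hfin : Finite H := Cfsg.Agent.H690.Spor.Ru.instFiniteH
  obtain ⟨R, hR⟩ := Cfsg.Agent.H690.Spor.Ru.r3
  exact (real_pair hR (Or.inl (by decide)) (a := 783) (b := 3276) (d := 12) (by norm_num) (by norm_num) (by norm_num)
    (by decide +kernel)).1

/-- **`Ru`, `p = 2`.** -/
theorem kd_ru {S : Type u} [Group S] (h : Spor.IsoRu S) : KD 2 S := by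
  obtain ⟨e⟩ := h
  have e' := e.trans Cfsg.Agent.RuLat.Main.equiv
  have hfin : Finite H := Cfsg.Agent.H690.Spor.Ru.instFiniteH
  refine KD.congr e'.symm (KD.zero 3 (B0D.of_real rc_783 (by decide)) (by norm_num) (by norm_num) (by norm_num)
    (by norm_num) ?_ (W [0, 9]) (by rw [H713.Two.Ru.w12]; norm_num))
  rw [factorization_card (k := 3) card_H (by norm_num) (by norm_num) (by norm_num) (by norm_num)]
  norm_num

end ru

/-- rational characters are real -/
theorem rc_of_rat {S : Type u} [Group S] [Finite S] {χ : S → ℂ} (hχ : IsIrrCharacter S χ)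
    (hr : ∀ g, ∃ q : ℚ, χ g = q) {d : ℕ} (h1 : χ 1 = d) : RC S d := by
  refine ⟨⟨χ, hχ⟩, fun g => ?_, Cfsg.Agent.Blocks.Basic.charDegree_of_eq h1⟩
  obtain ⟨q, hq⟩ := hr g
  show (χ g).im = 0
  rw [hq]
  exact Complex.ratCast_im q

section hn

open Cfsg.Agent.H38.K4 Cfsg.Agent.H38.K4.HN Cfsg.Agent.H443.HN.Scheme Cfsg.Agent.H443.HN.Frame

theorem rc_hn : RC Spor.HN 16929 ∧ RC Spor.HN 653125 := by
  have : Finite Spor.HN := Nat.finite_of_card_ne_zero (by rw [card_G]; norm_num)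
  have := Fintype.ofFinite Spor.HN
  obtain ⟨χ, N, h1, h2, -, h4, h5, h6, h7⟩ := chars_rat
  have hirr : ∀ s, N s s = 1 → IsIrrCharacter Spor.HN (χ s) := fun s h =>
    isIrr_of_classInner_self (h1 s) (by rw [h5, h, Nat.cast_one])
  have hne : N 1 1 ≠ 1 := by
    intro h
    have h8 := Blocks.Knorr.charDegree_dvd (hirr 1 h)
    rw [charDegree_eq (h2 1), card_G] at h8
    revert h8
    show ¬ (12749 ∣ 273030912000000)
    norm_num
  have h11 : N 2 2 = 1 ∧ N 4 4 = 1 := by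
    simp only [Fin.sum_univ_eight] at h7
    have e0 := h6 0
    have e1 := h6 1
    have e2 := h6 2
    have e3 := h6 3
    have e4 := h6 4
    have e5 := h6 5
    have e6 := h6 6
    have e7 := h6 7
    omega
  exact ⟨rc_of_rat (hirr 2 h11.1) (h4 2) (h2 2), rc_of_rat (hirr 4 h11.2) (h4 4) (h2 4)⟩

/-- **`HN`, `p = 2`.** -/
theorem kd_hn {S : Type u} [Group S] (h : Spor.IsoHN S) : KD 2 S := by
  obtain ⟨e⟩ := h
  have : Finite Spor.HN := Nat.finite_of_card_ne_zero (by rw [card_G]; norm_num)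
  exact KD.congr e.symm (KD.real 19 rc_hn.1 rc_hn.2 (by decide) (by decide) (by norm_num) (by norm_num) (by norm_num)
    (by norm_num) (by norm_num) (by norm_num) (by norm_num))

end hn

section th

open Cfsg.Agent.H492

theorem rc_th_of {d : ℕ} (h : ∃ χ : IrrCharacter Spor.Th, (χ : Spor.Th → ℂ) 1 = (d : ℕ) ∧
    ∀ σ : ℂ →+* ℂ, ∀ x, σ ((χ : Spor.Th → ℂ) x) = (χ : Spor.Th → ℂ) x) : RC Spor.Th d := by
  obtain ⟨χ, h1, h2⟩ := h
  refine ⟨χ, fun g => ?_, Cfsg.Agent.Blocks.Basic.charDegree_of_eq h1⟩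
  have h3 := h2 (starRingEnd ℂ) g
  exact Complex.conj_eq_iff_im.1 h3

/-- **`Th`, `p = 2`.** -/
theorem kd_th {S : Type u} [Group S] (h : Spor.IsoTh S) : KD 2 S := by
  obtain ⟨e⟩ := h
  have : Finite Spor.Th := Nat.finite_of_card_ne_zero (by rw [NotCT.Orders.th ⟨MulEquiv.refl _⟩]; norm_num)
  exact KD.congr e.symm (KD.real 19 (rc_th_of ThRat.val_4123) (rc_th_of ThRat.val_30875) (by decide) (by decide)
    (by norm_num) (by norm_num) (by norm_num) (by norm_num) (by norm_num) (by norm_num) (by norm_num))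

end th

end Cfsg.Agent.H51.BD
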