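import Cfsg.Agent.H585.BD.Card
import Cfsg.Agent.NotCT.Orders
import Cfsg.Agent.H487.SchurMult
import Cfsg.Agent.S2049
import Cfsg.Agent.S2050
import Cfsg.Agent.S2051
import Cfsg.Agent.S2052
import Cfsg.Agent.S2056
import Cfsg.Agent.S2057
import Cfsg.Agent.S2075
import Cfsg.Agent.S2076
import Cfsg.Agent.S2077
import Cfsg.Agent.S2078
import Cfsg.Agent.S2082
import Cfsg.Agent.S2083

/-!
# `Tame` for `He`, `Ru`, `ON`, `Ly`, `HN`, `Th` (S4932, helper51)

* `tame_of_table` : the row at an odd prime from the order, the Schur multiplier and `#Out S ∣ 2`;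
* `tame_he`, `tame_on`, `tame_ly` : all primes;
* `tame_ru`, `tame_hn`, `tame_th` : all odd primes.
-/

set_option autoImplicit false

namespace Cfsg.Agent.H51.BD

open Cfsg Cfsg.Agent.H589.BD Cfsg.Agent.H585.BD

universe u v

theorem card_out_congr {G : Type u} {H : Type v} [Group G] [Group H] (e : G ≃* H) :
    Nat.card (Out G) = Nat.card (Out H) := by
  refine Nat.card_congr (QuotientGroup.congr (Inn G) (Inn H) (MulAut.congr e) ?_).toEquiv
  ext a
  constructor
  · rintro ⟨_, ⟨g, rfl⟩, rfl⟩
    refine ⟨e g, ?_⟩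
    apply MulEquiv.ext
    intro y
    change e g * y * (e g)⁻¹ = e (g * e.symm y * g⁻¹)
    rw [map_mul, map_mul, map_inv, e.apply_symm_apply]
  · rintro ⟨h, rfl⟩
    refine ⟨MulAut.conj (e.symm h), ⟨_, rfl⟩, ?_⟩
    apply MulEquiv.ext
    intro y
    change e (e.symm h * e.symm y * (e.symm h)⁻¹) = h * y * h⁻¹
    rw [map_mul, map_mul, map_inv, e.apply_symm_apply, e.apply_symm_apply]

/-- The 12-th powers of the odd primes dividing a number below `47 ^ 12`. -/
def noTwelve (N : ℕ) : Bool :=
  N != 0 && decide (N < 47 ^ 12) && [3, 5, 7, 11, 13, 17, 19, 23, 29, 31, 37, 41, 43].all fun p => N % p ^ 12 != 0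

theorem noTwelve_spec {N : ℕ} (h : noTwelve N = true) {p : ℕ} (hp : p.Prime) (h2 : p ≠ 2) : ¬ p ^ 12 ∣ N := by
  rintro hd
  simp only [noTwelve, Bool.and_eq_true, bne_iff_ne, ne_eq, decide_eq_true_eq, List.all_eq_true] at h
  obtain ⟨⟨h0, h1⟩, h3⟩ := h
  have h4 : p ^ 12 ≤ N := Nat.le_of_dvd (Nat.pos_of_ne_zero h0) hd
  have h5 : p < 47 := lt_of_pow_lt_pow_left₀ 12 (by norm_num) (h4.trans_lt h1)
  have h6 : p ∈ [3, 5, 7, 11, 13, 17, 19, 23, 29, 31, 37, 41, 43] := by
    interval_cases p <;> first | exact absurd rfl h2 | decide | (exfalso; revert hp; norm_num)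
  exact h3 p h6 (Nat.mod_eq_zero_of_dvd hd)

/-- The row at an odd prime. -/
theorem tame_of_table {S : Type u} [Group S] (hZ : Subgroup.center S = ⊥) {T : Type v} [Group T] (e : S ≃* T) {c n : ℕ} (hc : Nat.card T = c)
    (hn : n ≠ 0) (hm : HasCyclicSchurMultiplier T n) (ho : Nat.card (Out T) ∣ 2) (hN : noTwelve (c * n) = true)
    {p : ℕ} (hp : p.Prime) (h2 : p ≠ 2) : Tame p S := by
  have : Fact p.Prime := ⟨hp⟩
  have : Finite T := Nat.finite_of_card_ne_zero (by
    rintro h0
    rw [← hc, h0, zero_mul] at hN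
    exact absurd hN (by decide))
  have : Finite S := Finite.of_equiv T e.symm.toEquiv
  refine tame_of_cyclic hZ hn (H487.HasSchurMultiplier.congr_left hm e.symm) ?_ ?_
  · rw [Nat.card_congr e.toEquiv, hc]
    exact noTwelve_spec hN hp h2
  · intro h
    rw [card_out_congr e] at h
    exact h2 ((Nat.prime_dvd_prime_iff_eq hp Nat.prime_two).1 (h.trans ho))

variable {S : Type u} [Group S] [IsSimpleGroup S] (hna : ¬ IsMulCommutative S)

include hna

theorem tame_he (h : Spor.IsoHe S) {p : ℕ} (hp : p.Prime) : Tame p S := by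
  obtain ⟨e⟩ := h
  have hc : Nat.card Spor.He = 4030387200 := NotCT.Orders.he ⟨MulEquiv.refl _⟩
  have ho : Nat.card (Out Spor.He) = 2 := S2075.result
  by_cases h2 : p = 2
  · subst h2
    have : Fact (Nat.Prime 2) := ⟨hp⟩
    have hS : Nat.card S = 4030387200 := by rw [Nat.card_congr e.toEquiv, hc]
    have hO : Nat.card (Out S) = 2 := by rw [card_out_congr e, ho]
    have : Finite S := Nat.finite_of_card_ne_zero (by rw [hS]; norm_num)
    have : Finite (Out S) := Nat.finite_of_card_ne_zero (by rw [hO]; norm_num)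
    refine tame_over_card (center_simple hna) (noCover_of_cyclic (H487.HasSchurMultiplier.congr_left S2049.result e.symm) (by norm_num))
      (outAb_of_card (by rw [hO]; norm_num)) ?_
    rw [hS, hO]
    norm_num
  · exact tame_of_table (center_simple hna) e hc one_ne_zero S2049.result (by rw [ho]) (by decide +kernel) hp h2

theorem tame_on (h : Spor.IsoON S) {p : ℕ} (hp : p.Prime) : Tame p S := by
  obtain ⟨e⟩ := h
  have hc : Nat.card Spor.ON = 460815505920 := NotCT.Orders.on ⟨MulEquiv.refl _⟩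
  have ho : Nat.card (Out Spor.ON) = 2 := S2078.result
  by_cases h2 : p = 2
  · subst h2
    have : Fact (Nat.Prime 2) := ⟨hp⟩
    have hS : Nat.card S = 460815505920 := by rw [Nat.card_congr e.toEquiv, hc]
    have hO : Nat.card (Out S) = 2 := by rw [card_out_congr e, ho]
    have : Finite S := Nat.finite_of_card_ne_zero (by rw [hS]; norm_num)
    have : Finite (Out S) := Nat.finite_of_card_ne_zero (by rw [hO]; norm_num)
    refine tame_over_card (center_simple hna) (noCover_of_cyclic (H487.HasSchurMultiplier.congr_left S2052.result e.symm) (by norm_num))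
      (outAb_of_card (by rw [hO]; norm_num)) ?_
    rw [hS, hO]
    norm_num
  · exact tame_of_table (center_simple hna) e hc (by norm_num) S2052.result (by rw [ho]) (by decide +kernel) hp h2

theorem tame_ly (h : Spor.IsoLy S) {p : ℕ} (hp : p.Prime) : Tame p S := by
  obtain ⟨e⟩ := h
  have hc : Nat.card Spor.Ly = 51765179004000000 := NotCT.Orders.ly ⟨MulEquiv.refl _⟩
  have ho : Nat.card (Out Spor.Ly) = 1 := S2076.result
  by_cases h2 : p = 2
  · subst h2
    have : Fact (Nat.Prime 2) := ⟨hp⟩
    have hS : Nat.card S = 51765179004000000 := by rw [Nat.card_congr e.toEquiv, hc]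
    refine tame_of_cyclic (center_simple hna) one_ne_zero (H487.HasSchurMultiplier.congr_left S2050.result e.symm) ?_ ?_
    · rw [hS]; norm_num
    · unfold OutPrime
      rw [card_out_congr e, ho]
      norm_num
  · exact tame_of_table (center_simple hna) e hc one_ne_zero S2050.result (by rw [ho]; norm_num) (by decide +kernel) hp h2

theorem tame_ru (h : Spor.IsoRu S) {p : ℕ} (hp : p.Prime) (h2 : p ≠ 2) : Tame p S := by
  obtain ⟨e⟩ := h
  exact tame_of_table (center_simple hna) e (NotCT.Orders.ru ⟨MulEquiv.refl _⟩) (by norm_num) S2051.result (by rw [S2077.result]; norm_num)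
    (by decide +kernel) hp h2

theorem tame_hn (h : Spor.IsoHN S) {p : ℕ} (hp : p.Prime) (h2 : p ≠ 2) : Tame p S := by
  obtain ⟨e⟩ := h
  exact tame_of_table (center_simple hna) e (NotCT.Orders.hn ⟨MulEquiv.refl _⟩) one_ne_zero S2056.result (by rw [S2082.result])
    (by decide +kernel) hp h2

theorem tame_th (h : Spor.IsoTh S) {p : ℕ} (hp : p.Prime) (h2 : p ≠ 2) : Tame p S := by
  obtain ⟨e⟩ := h
  exact tame_of_table (center_simple hna) e (NotCT.Orders.th ⟨MulEquiv.refl _⟩) one_ne_zero S2057.result (by rw [S2083.result]; norm_num)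
    (by decide +kernel) hp h2

end Cfsg.Agent.H51.BD
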